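import Mathlib
import Groth.Agent.Segre.Param

set_option autoImplicit false
set_option backward.isDefEq.respectTransparency false
universe u
open TensorProduct

namespace Groth.Agent.GenDim

/-- A finite type domain over a field has dimension `s`, contains `s` algebraically independent
elements and no more. -/
theorem exists_indep (k D : Type u) [Field k] [CommRing D] [IsDomain D] [Algebra k D]
    [Algebra.FiniteType k D] :
    ∃ s : ℕ, ringKrullDim D = s ∧ (∃ b : Fin s → D, AlgebraicIndependent k b) ∧
      ∀ (n : ℕ) (c : Fin n → D), AlgebraicIndependent k c → n ≤ s := by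
  obtain ⟨s, g, hg, hgf⟩ := exists_finite_inj_algHom_of_fg k D
  have hdim : ringKrullDim D = s := by
    rw [← Segre.Param.ringKrullDim_eq_of_isIntegral g.toRingHom hgf.to_isIntegral hg,
      MvPolynomial.ringKrullDim_of_isNoetherianRing, ringKrullDim_eq_zero_of_field k]
    simp
  have htr : Algebra.trdeg k D = s := by
    algebraize [g.toRingHom]
    haveI : IsScalarTower k (MvPolynomial (Fin s) k) D :=
      IsScalarTower.of_algebraMap_eq fun c => (g.commutes c).symm
    haveI : FaithfulSMul (MvPolynomial (Fin s) k) D :=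
      (faithfulSMul_iff_algebraMap_injective _ _).mpr hg
    haveI : Module.Finite (MvPolynomial (Fin s) k) D := hgf
    haveI : Algebra.IsAlgebraic (MvPolynomial (Fin s) k) D := Algebra.IsIntegral.isAlgebraic
    rw [← trdeg_add_eq k (MvPolynomial (Fin s) k) (A := D),
      trdeg_eq_zero (R := MvPolynomial (Fin s) k) (A := D), add_zero,
      MvPolynomial.trdeg_of_isDomain]
    simp
  refine ⟨s, hdim, ⟨fun i => g (MvPolynomial.X i),
    (MvPolynomial.algebraicIndependent_X (Fin s) k).map' hg⟩, fun n c hc => ?_⟩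
  have h := hc.lift_cardinalMk_le_trdeg
  rw [htr] at h
  simpa using h

/-- Base change of an algebraically independent family along a field extension: some prime of the
base change keeps it independent. -/
theorem exists_prime_baseChange (k L D : Type u) [Field k] [Field L] [Algebra k L] [CommRing D]
    [Algebra k D] {s : ℕ} (b : Fin s → D) (hb : AlgebraicIndependent k b) :
    ∃ N : PrimeSpectrum (L ⊗[k] D), ∀ F : MvPolynomial (Fin s) L,
      MvPolynomial.aeval (fun i => (1 : L) ⊗ₜ[k] b i) F ∈ N.asIdeal → F = 0 := by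
  let φ : MvPolynomial (Fin s) L →ₐ[L] L ⊗[k] D := MvPolynomial.aeval fun i => (1 : L) ⊗ₜ[k] b i
  have hφ : Function.Injective φ := by
    let ψ : L ⊗[k] MvPolynomial (Fin s) k →ₐ[L] L ⊗[k] D :=
      Algebra.TensorProduct.map (AlgHom.id L L) (MvPolynomial.aeval b)
    have hψ : Function.Injective ψ := by
      have := Module.Flat.lTensor_preserves_injective_linearMap (M := L)
        (MvPolynomial.aeval b).toLinearMap hb
      intro x y h
      apply this
      have hx : ∀ z, (MvPolynomial.aeval b).toLinearMap.lTensor L z = ψ z := fun z => by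
        induction z with
        | zero => simp
        | tmul x y => simp [ψ]
        | add x y hx hy => simp [hx, hy]
      rw [hx, hx, h]
    have he : φ = ψ.comp (MvPolynomial.algebraTensorAlgEquiv (σ := Fin s) k L).symm.toAlgHom := by
      refine MvPolynomial.algHom_ext fun i => ?_
      have : (MvPolynomial.algebraTensorAlgEquiv (σ := Fin s) k L).symm (MvPolynomial.X i) =
          (1 : L) ⊗ₜ MvPolynomial.X i := by
        rw [AlgEquiv.symm_apply_eq]; simp
      simp [φ, ψ, this]
    rw [he]
    exact hψ.comp (AlgEquiv.injective _)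
  obtain ⟨N, hN, hN0⟩ := Ideal.exists_comap_eq_of_mem_minimalPrimes (f := φ.toRingHom) (I := ⊥)
    ⊥ (by
      rw [show Ideal.comap φ.toRingHom ⊥ = ⊥ from (RingHom.injective_iff_ker_eq_bot _).mp hφ]
      exact ⟨⟨Ideal.isPrime_bot, le_rfl⟩, fun _ _ _ => bot_le⟩)
  refine ⟨⟨N, hN⟩, fun F hF => ?_⟩
  have : F ∈ (Ideal.comap φ.toRingHom N) := hF
  obtain ⟨-, hN0⟩ := hN0
  rw [hN0] at this
  exact this

/-- Relations over the fraction field of a valuation ring reduce to non trivial relations. -/
theorem indep_generic {K : Type u} [Field K] (V : ValuationSubring K) {R G : Type u} [CommRing R]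
    [Algebra V R] [CommRing G] [Algebra K G] (j : R →+* G)
    (hj : ∀ a : V, j (algebraMap V R a) = algebraMap K G (a : K))
    (Q : Ideal R) (M : Ideal G) (hMQ : M.comap j ≤ Q) {s : ℕ} (c : Fin s → R)
    (hQ : ∀ F : MvPolynomial (Fin s) V, MvPolynomial.aeval c F ∈ Q →
      MvPolynomial.map (IsLocalRing.residue V) F = 0) :
    AlgebraicIndependent K (fun i => Ideal.Quotient.mk M (j (c i))) := by
  classical
  rw [algebraicIndependent_iff]
  intro F hF
  by_contra hne
  have hsupp : F.support.Nonempty := by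
    simpa [Finset.nonempty_iff_ne_empty] using hne
  obtain ⟨m, hm, hmax⟩ := F.support.exists_max_image (fun n => V.valuation (F.coeff n)) hsupp
  have hm0 : F.coeff m ≠ 0 := MvPolynomial.mem_support_iff.mp hm
  let F₁ : MvPolynomial (Fin s) K := MvPolynomial.C (F.coeff m)⁻¹ * F
  have hco : ∀ n, F₁.coeff n ∈ V := by
    intro n
    rw [← V.valuation_le_one_iff, MvPolynomial.coeff_C_mul, map_mul, map_inv₀]
    by_cases hn : n ∈ F.support
    · rw [inv_mul_le_one₀ (by
        exact pos_iff_ne_zero.mpr ((map_ne_zero V.valuation).mpr hm0))]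
      exact hmax n hn
    · rw [MvPolynomial.notMem_support_iff.mp hn, map_zero, mul_zero]; exact zero_le'
  obtain ⟨F', hF'⟩ : ∃ F' : MvPolynomial (Fin s) V, MvPolynomial.map V.subtype F' = F₁ := by
    refine MvPolynomial.mem_range_map_iff_coeffs_subset.mpr ?_
    intro a ha
    obtain ⟨n, -, rfl⟩ := MvPolynomial.mem_coeffs_iff.mp ha
    exact ⟨⟨_, hco n⟩, rfl⟩
  have heval : ∀ P : MvPolynomial (Fin s) V,
      Ideal.Quotient.mk M (j (MvPolynomial.aeval c P)) =
        MvPolynomial.aeval (fun i => Ideal.Quotient.mk M (j (c i)))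
          (MvPolynomial.map V.subtype P) := by
    intro P
    have : ((Ideal.Quotient.mk M).comp j).comp (MvPolynomial.aeval c).toRingHom =
        (MvPolynomial.aeval fun i => Ideal.Quotient.mk M (j (c i))).toRingHom.comp
          (MvPolynomial.map V.subtype) := by
      refine MvPolynomial.ringHom_ext (fun a => ?_) fun i => by simp
      simp [hj]
    exact RingHom.congr_fun this P
  have hz : MvPolynomial.aeval c F' ∈ Q := by
    refine hMQ (show j _ ∈ M from Ideal.Quotient.eq_zero_iff_mem.mp ?_)
    rw [heval, hF']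
    simp [F₁, hF]
  have := congrArg (MvPolynomial.coeff m) (hQ F' hz)
  rw [MvPolynomial.coeff_map, MvPolynomial.coeff_zero] at this
  have h1 : F'.coeff m = 1 := by
    apply Subtype.ext
    have := congrArg (MvPolynomial.coeff m) hF'
    rw [MvPolynomial.coeff_map, MvPolynomial.coeff_C_mul, inv_mul_cancel₀ hm0] at this
    exact this
  rw [h1, map_one] at this
  exact one_ne_zero this

/-- The special fibre step. -/
theorem special_step (k L F : Type u) [Field k] [Field L] [Algebra k L] [CommRing F] [Algebra k F]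
    [Algebra.FiniteType k F] (J : Set (PrimeSpectrum F)) (P₀ : PrimeSpectrum F) (hP₀ : P₀ ∈ closure J) :
    ∃ (N₀ : PrimeSpectrum (L ⊗[k] F)) (s : ℕ) (b : Fin s → F),
      ringKrullDim (F ⧸ P₀.asIdeal) = s ∧
      N₀ ∈ closure (PrimeSpectrum.comap
        (Algebra.TensorProduct.includeRight (R := k) (A := L) (B := F)).toRingHom ⁻¹' J) ∧
      ∀ G : MvPolynomial (Fin s) L,
        MvPolynomial.aeval (fun i => (1 : L) ⊗ₜ[k] b i) G ∈ N₀.asIdeal → G = 0 := by
  haveI := P₀.2
  obtain ⟨s, hdim, ⟨b, hb⟩, -⟩ := exists_indep k (F ⧸ P₀.asIdeal)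
  obtain ⟨N, hN⟩ := exists_prime_baseChange k L (F ⧸ P₀.asIdeal) b hb
  let q : L ⊗[k] F →ₐ[L] L ⊗[k] (F ⧸ P₀.asIdeal) :=
    Algebra.TensorProduct.map (AlgHom.id L L) (Ideal.Quotient.mkₐ k P₀.asIdeal)
  let inF : F →+* L ⊗[k] F := (Algebra.TensorProduct.includeRight (R := k) (A := L) (B := F)).toRingHom
  have hopen : IsOpenMap (PrimeSpectrum.comap inF) := by
    have h1 := PrimeSpectrum.isOpenMap_comap_algebraMap_tensorProduct_of_field (K := k) (A := F) (B := L)
    have h2 : inF = (Algebra.TensorProduct.comm k F L).toRingEquiv.toRingHom.comp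
        (algebraMap F (F ⊗[k] L)) := by
      ext f; simp [inF, Algebra.TensorProduct.algebraMap_apply]
    rw [h2, PrimeSpectrum.comap_comp]
    exact h1.comp (PrimeSpectrum.homeomorphOfRingEquiv
      (Algebra.TensorProduct.comm k F L).toRingEquiv).symm.isOpenMap
  refine ⟨PrimeSpectrum.comap q.toRingHom N, s, fun i => Quotient.out (b i), hdim, ?_, fun G hG => hN G ?_⟩
  · refine hopen.preimage_closure_subset_closure_preimage ?_
    refine (specializes_iff_closure_subset.mp ?_).trans
      (closure_minimal (Set.singleton_subset_iff.mpr hP₀) isClosed_closure) (subset_closure rfl)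
    rw [← PrimeSpectrum.le_iff_specializes]
    intro f hf
    show q (inF f) ∈ N.asIdeal
    simp [q, inF, Ideal.Quotient.eq_zero_iff_mem.mpr hf]
  · have : q.comp (MvPolynomial.aeval fun i => (1 : L) ⊗ₜ[k] (Quotient.out (b i) : F)) =
        MvPolynomial.aeval fun i => (1 : L) ⊗ₜ[k] b i := by
      refine MvPolynomial.algHom_ext fun i => ?_
      simp only [AlgHom.comp_apply, MvPolynomial.aeval_X, q, Algebra.TensorProduct.map_tmul,
        AlgHom.coe_id, id_eq]
      congr 1
      exact Quotient.out_eq (b i)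
    rw [← this]
    exact hG

/-- Choosing a component of the closure of the generic image points. -/
theorem transfer {R E G : Type u} [CommRing R] [CommRing E] [CommRing G] [IsNoetherianRing G]
    (π : R →+* E) (j : R →+* G) (JE : Set (PrimeSpectrum E)) (JG : Set (PrimeSpectrum G))
    (N₀ : PrimeSpectrum E) (hN₀ : N₀ ∈ closure JE)
    (H : ∀ N ∈ JE, ∃ M ∈ JG, M.asIdeal.comap j ≤ N.asIdeal.comap π) :
    ∃ M₀ ∈ closure JG, M₀.asIdeal.comap j ≤ N₀.asIdeal.comap π := by
  classical
  let W : Ideal G := PrimeSpectrum.vanishingIdeal JG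
  have hWQ : W.comap j ≤ N₀.asIdeal.comap π := by
    intro x hx
    rw [← PrimeSpectrum.zeroLocus_vanishingIdeal_eq_closure, PrimeSpectrum.mem_zeroLocus] at hN₀
    refine hN₀ ?_
    rw [SetLike.mem_coe, PrimeSpectrum.mem_vanishingIdeal]
    intro N hN
    obtain ⟨M, hM, hle⟩ := H N hN
    exact hle ((PrimeSpectrum.mem_vanishingIdeal JG _).mp hx M hM)
  have hfin := Ideal.finite_minimalPrimes_of_isNoetherianRing G W
  have hrad : hfin.toFinset.inf (fun M => M) ≤ W := by
    intro x hx
    have h2 : x ∈ W.radical := by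
      rw [← Ideal.sInf_minimalPrimes, Ideal.mem_sInf]
      intro M hM
      exact Finset.inf_le (f := fun M => M) (hfin.mem_toFinset.mpr hM) hx
    obtain ⟨n, hn⟩ := h2
    rw [PrimeSpectrum.mem_vanishingIdeal] at hn ⊢
    exact fun M hM => M.2.mem_of_pow_mem n (hn M hM)
  have h3 : hfin.toFinset.inf (fun M => M.comap j) ≤ N₀.asIdeal.comap π := by
    refine le_trans (fun x hx => hrad ?_) hWQ
    simp only [Submodule.mem_finsetInf] at hx ⊢
    exact hx
  obtain ⟨M, hM, hMle⟩ := ((Ideal.IsPrime.comap π (hK := N₀.2)).inf_le').mp h3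
  have hM' := hfin.mem_toFinset.mp hM
  refine ⟨⟨M, hM'.1.1⟩, ?_, hMle⟩
  rw [← PrimeSpectrum.zeroLocus_vanishingIdeal_eq_closure, PrimeSpectrum.mem_zeroLocus]
  exact hM'.1.2

/- The key estimate. -/
set_option maxHeartbeats 1600000 in
theorem key {A B : Type u} [CommRing A] [CommRing B] [Algebra A B] [Algebra.FiniteType A B]
    (p p' : Ideal A) [p.IsPrime] [p'.IsPrime] (V : ValuationSubring p'.ResidueField) [Algebra A V]
    [IsScalarTower A V p'.ResidueField]
    (hV : (IsLocalRing.maximalIdeal V).comap (algebraMap A V) = p)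
    (J : Set (PrimeSpectrum B))
    (H : ∀ Q : PrimeSpectrum (V ⊗[A] B),
      (∀ a ∈ IsLocalRing.maximalIdeal V, algebraMap V (V ⊗[A] B) a ∈ Q.asIdeal) →
      PrimeSpectrum.comap (Algebra.TensorProduct.includeRight (R := A) (A := V) (B := B)).toRingHom Q
          ∈ J →
      ∃ M : PrimeSpectrum (p'.Fiber B),
        PrimeSpectrum.comap
          (Algebra.TensorProduct.includeRight (R := A) (A := p'.ResidueField) (B := B)).toRingHom M
            ∈ J ∧
        M.asIdeal.comap (Algebra.TensorProduct.map (IsScalarTower.toAlgHom A V p'.ResidueField)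
          (AlgHom.id A B)).toRingHom ≤ Q.asIdeal)
    (P₀ : PrimeSpectrum (p.Fiber B))
    (hP₀ : P₀ ∈ closure (PrimeSpectrum.comap
      (Algebra.TensorProduct.includeRight (R := A) (A := p.ResidueField) (B := B)).toRingHom ⁻¹' J)) :
    ∃ M₀ ∈ closure (PrimeSpectrum.comap
      (Algebra.TensorProduct.includeRight (R := A) (A := p'.ResidueField) (B := B)).toRingHom ⁻¹' J),
      ringKrullDim (p.Fiber B ⧸ P₀.asIdeal) ≤ ringKrullDim (p'.Fiber B ⧸ M₀.asIdeal) := by
  classical
  -- the residue field extension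
  let σ : (p.ResidueField) →ₐ[A] (IsLocalRing.ResidueField V) :=
    Ideal.ResidueField.liftₐ p (Algebra.ofId A (IsLocalRing.ResidueField V))
      (fun a ha => by
        rw [← hV] at ha
        rw [RingHom.mem_ker]
        exact (IsLocalRing.residue_eq_zero_iff _).mpr ha)
      (fun a ha => by
        refine isUnit_iff_ne_zero.mpr fun h => ha ?_
        rw [← hV]
        exact (IsLocalRing.residue_eq_zero_iff _).mp h)
  letI : Algebra (p.ResidueField) (IsLocalRing.ResidueField V) := σ.toRingHom.toAlgebra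
  haveI : IsScalarTower A (p.ResidueField) (IsLocalRing.ResidueField V) := IsScalarTower.of_algebraMap_eq fun a => (σ.commutes a).symm
  -- (V ⊗[A] B) → ((IsLocalRing.ResidueField V) ⊗[(p.ResidueField)] (p.Fiber B))
  let iB : B →ₐ[A] ((IsLocalRing.ResidueField V) ⊗[(p.ResidueField)] (p.Fiber B)) :=
    ((Algebra.TensorProduct.includeRight (R := (p.ResidueField)) (A := (IsLocalRing.ResidueField V)) (B := (p.Fiber B))).restrictScalars A).comp
      Algebra.TensorProduct.includeRight
  let πA : (V ⊗[A] B) →ₐ[A] ((IsLocalRing.ResidueField V) ⊗[(p.ResidueField)] (p.Fiber B)) := Algebra.TensorProduct.lift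
    ((Algebra.TensorProduct.includeLeft (R := (p.ResidueField)) (S := A) (A := (IsLocalRing.ResidueField V)) (B := (p.Fiber B))).comp
      (IsScalarTower.toAlgHom A V (IsLocalRing.ResidueField V))) iB (fun x y => @mul_comm ((IsLocalRing.ResidueField V) ⊗[(p.ResidueField)] (p.Fiber B)) _ _ _)
  have hπ : Function.Surjective πA := by
    rw [← AlgHom.range_eq_top, _root_.eq_top_iff]
    rintro x -
    induction x with
    | zero => exact Subalgebra.zero_mem _
    | add x y hx hy => exact Subalgebra.add_mem _ hx hy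
    | tmul l f =>
      induction f using TensorProduct.induction_on with
      | zero => rw [TensorProduct.tmul_zero]; exact Subalgebra.zero_mem _
      | add x y hx hy => rw [TensorProduct.tmul_add]; exact Subalgebra.add_mem _ hx hy
      | tmul a b =>
        obtain ⟨v, hv⟩ := IsLocalRing.residue_surjective (a • l)
        refine ⟨v ⊗ₜ b, ?_⟩
        have h1 : (a ⊗ₜ[A] b : (p.Fiber B)) = a • ((1 : (p.ResidueField)) ⊗ₜ[A] b) := by simp [TensorProduct.smul_tmul']
        rw [h1, ← TensorProduct.smul_tmul, ← hv]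
        simp [πA, iB, IsLocalRing.ResidueField.algebraMap_eq]
  let inF : (p.Fiber B) →+* ((IsLocalRing.ResidueField V) ⊗[(p.ResidueField)] (p.Fiber B)) :=
    (Algebra.TensorProduct.includeRight (R := (p.ResidueField)) (A := (IsLocalRing.ResidueField V)) (B := (p.Fiber B))).toRingHom
  obtain ⟨N₀, s, b, hdim, hN₀, hN⟩ := special_step (p.ResidueField) (IsLocalRing.ResidueField V) (p.Fiber B) _ P₀ hP₀
  -- push to (V ⊗[A] B)
  let π : (V ⊗[A] B) →+* ((IsLocalRing.ResidueField V) ⊗[(p.ResidueField)] (p.Fiber B)) := πA.toRingHom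
  let j : (V ⊗[A] B) →+* (p'.Fiber B) := (Algebra.TensorProduct.map (IsScalarTower.toAlgHom A V (p'.ResidueField))
      (AlgHom.id A B)).toRingHom
  let J' : Set (PrimeSpectrum (p'.Fiber B)) := PrimeSpectrum.comap
      (Algebra.TensorProduct.includeRight (R := A) (A := (p'.ResidueField)) (B := B)).toRingHom ⁻¹' J
  haveI : IsNoetherianRing (p'.Fiber B) := Algebra.FiniteType.isNoetherianRing (p'.ResidueField) _
  obtain ⟨M₀, hM₀, hM₀Q⟩ := transfer π j _ J' N₀ hN₀ (fun N hN' => by
    have hcomp : π.comp (Algebra.TensorProduct.includeRight (R := A) (A := V) (B := B)).toRingHom =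
        inF.comp (Algebra.TensorProduct.includeRight (R := A) (A := p.ResidueField) (B := B)).toRingHom := by
      ext b; simp [π, πA, iB, inF]
    obtain ⟨M, hM, hle⟩ := H ⟨N.asIdeal.comap π, Ideal.IsPrime.comap π⟩ (fun a ha => by
        have : π (algebraMap V (V ⊗[A] B) a) = 0 := by
          simp [π, πA, Algebra.TensorProduct.algebraMap_apply,
            IsLocalRing.ResidueField.algebraMap_eq, (IsLocalRing.residue_eq_zero_iff _).mpr ha]
        show π _ ∈ N.asIdeal
        rw [this]; exact Ideal.zero_mem _) (by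
        refine (congrArg (· ∈ J) ?_).mpr hN'
        refine PrimeSpectrum.ext ?_
        show (N.asIdeal.comap π).comap _ = (N.asIdeal.comap _).comap _
        rw [Ideal.comap_comap, Ideal.comap_comap, hcomp])
    exact ⟨M, hM, hle⟩)
  refine ⟨M₀, hM₀, ?_⟩
  haveI := M₀.2
  haveI : Algebra.FiniteType (p'.ResidueField) ((p'.Fiber B) ⧸ M₀.asIdeal) := inferInstance
  obtain ⟨s', hdim', -, hmax⟩ := exists_indep (p'.ResidueField) ((p'.Fiber B) ⧸ M₀.asIdeal)
  rw [hdim, hdim']
  norm_cast
  choose c hc using fun i => hπ ((1 : (IsLocalRing.ResidueField V)) ⊗ₜ[(p.ResidueField)] b i)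
  refine hmax s _ (indep_generic V j (fun a => ?_) (N₀.asIdeal.comap π) M₀.asIdeal
    hM₀Q c fun P hP => hN _ ?_)
  · simp [j, Algebra.TensorProduct.algebraMap_apply]
  · have hev : π.comp (MvPolynomial.aeval c).toRingHom =
        (MvPolynomial.aeval fun i => (1 : (IsLocalRing.ResidueField V)) ⊗ₜ[(p.ResidueField)] b i).toRingHom.comp
          (MvPolynomial.map (IsLocalRing.residue V)) := by
      refine MvPolynomial.ringHom_ext (fun a => ?_) fun i => ?_
      · simp [π, πA, Algebra.TensorProduct.algebraMap_apply, IsLocalRing.ResidueField.algebraMap_eq]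
      · simpa [π] using hc i
    have h1 : π (MvPolynomial.aeval c P) ∈ N₀.asIdeal := hP
    rwa [show π (MvPolynomial.aeval c P) = _ from RingHom.congr_fun hev P] at h1

end Groth.Agent.GenDim
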