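import Mathlib
import Groth.Agent.GenDim.Alg

set_option autoImplicit false
set_option backward.isDefEq.respectTransparency false
universe u
open Polynomial

namespace Groth.Agent.GenDim

/-- Maximal ideals of a polynomial ring over a field have height the number of variables. -/
theorem le_height_mvPolynomial (k : Type u) [Field k] : ∀ (s : ℕ)
    (M : Ideal (MvPolynomial (Fin s) k)), M.IsMaximal → (s : ℕ∞) ≤ M.height := by
  intro s
  induction s with
  | zero => intro M _; exact zero_le
  | succ s ih =>
    intro M hM
    let e := (MvPolynomial.finSuccEquiv k s).toRingEquiv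
    let M' : Ideal (MvPolynomial (Fin s) k)[X] := M.comap e.symm.toRingHom
    haveI : M'.IsMaximal := Ideal.comap_isMaximal_of_surjective _ e.symm.surjective
    haveI hp : (M'.comap (C : MvPolynomial (Fin s) k →+* _)).IsMaximal :=
      Polynomial.isMaximal_comap_C_of_isJacobsonRing M'
    haveI : M'.LiesOver (M'.comap (C : MvPolynomial (Fin s) k →+* _)) := ⟨rfl⟩
    have h1 := Polynomial.height_eq_height_add_one (M'.comap (C : MvPolynomial (Fin s) k →+* _)) M'
    have h2 : M'.height = M.height := e.symm.height_comap M
    rw [← h2, h1, Nat.cast_succ]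
    gcongr
    exact ih _ hp

/- In a finite type domain over a field all maximal ideals have height the dimension. -/
set_option maxHeartbeats 1000000 in
theorem ringKrullDim_le_height (k D : Type u) [Field k] [CommRing D] [IsDomain D] [Algebra k D]
    [Algebra.FiniteType k D] (M : Ideal D) [M.IsMaximal] : ringKrullDim D ≤ M.height := by
  obtain ⟨s, g, hg, hgf⟩ := exists_finite_inj_algHom_of_fg k D
  have hdim : ringKrullDim D = s := by
    rw [← Segre.Param.ringKrullDim_eq_of_isIntegral g.toRingHom hgf.to_isIntegral hg,
      MvPolynomial.ringKrullDim_of_isNoetherianRing, ringKrullDim_eq_zero_of_field k]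
    simp
  rw [hdim]
  letI := g.toRingHom.toAlgebra
  haveI : Module.Finite (MvPolynomial (Fin s) k) D := hgf
  haveI : FaithfulSMul (MvPolynomial (Fin s) k) D := (faithfulSMul_iff_algebraMap_injective _ _).mpr hg
  haveI : (M.under (MvPolynomial (Fin s) k)).IsMaximal := Ideal.isMaximal_comap_of_isIntegral_of_isMaximal (R := MvPolynomial (Fin s) k) M
  refine WithBot.coe_le_coe.mpr ((le_height_mvPolynomial k s (M.under (MvPolynomial (Fin s) k)) inferInstance).trans ?_)
  rw [show (M.under (MvPolynomial (Fin s) k)).height =
      Order.height (⟨M.under (MvPolynomial (Fin s) k), inferInstance⟩ : PrimeSpectrum _) from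
      PrimeSpectrum.height_eq_orderHeight ⟨M.under (MvPolynomial (Fin s) k), inferInstance⟩,
    show M.height = Order.height (⟨M, inferInstance⟩ : PrimeSpectrum D) from
      PrimeSpectrum.height_eq_orderHeight ⟨M, inferInstance⟩]
  haveI h1 : Algebra.IsIntegral (MvPolynomial (Fin s) k) D := Algebra.IsIntegral.of_finite _ _
  haveI h2 : IsIntegrallyClosed (MvPolynomial (Fin s) k) := UniqueFactorizationMonoid.instIsIntegrallyClosed
  haveI : Algebra.HasGoingDown (MvPolynomial (Fin s) k) D := inferInstance
  refine Order.height_le fun l hl => ?_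
  haveI : M.LiesOver l.last.asIdeal := ⟨by rw [hl]⟩
  obtain ⟨L, hL, hlast, -⟩ := Ideal.exists_ltSeries_of_hasGoingDown l M
  rw [← hL]
  exact Order.length_le_height hlast.le

end Groth.Agent.GenDim
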