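import Mathlib
import Groth.Agent.GenDim.Height

set_option autoImplicit false
set_option backward.isDefEq.respectTransparency false
universe u
open CategoryTheory AlgebraicGeometry TopologicalSpace

namespace Groth.Agent.GenDim

section
variable {F : Scheme.{u}} {V : F.Opens} (hV : IsAffineOpen V) (P : Ideal Γ(F, V))

/-- point attached to a prime of `Γ(F, V) ⧸ P` -/
noncomputable def pt (q : PrimeSpectrum (Γ(F, V) ⧸ P)) : F :=
  hV.fromSpec (PrimeSpectrum.comap (Ideal.Quotient.mk P) q)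

theorem pt_le_iff (q q' : PrimeSpectrum (Γ(F, V) ⧸ P)) : q ≤ q' ↔ pt hV P q ⤳ pt hV P q' := by
  rw [PrimeSpectrum.le_iff_specializes]
  refine ⟨fun h => (h.map (PrimeSpectrum.continuous_comap _)).map hV.fromSpec.continuous, fun h => ?_⟩
  exact (PrimeSpectrum.isClosedEmbedding_comap_of_surjective _ _
    Ideal.Quotient.mk_surjective).isInducing.specializes_iff.mp
      (hV.fromSpec.isOpenEmbedding.isInducing.specializes_iff.mp h)

theorem pt_injective : Function.Injective (pt hV P) :=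
  hV.fromSpec.isOpenEmbedding.injective.comp
    (PrimeSpectrum.comap_injective_of_surjective _ Ideal.Quotient.mk_surjective)

theorem mem_range_pt [hP : P.IsPrime] (x : F) (hx : x ∈ V)
    (hsp : hV.fromSpec (⟨P, hP⟩ : PrimeSpectrum Γ(F, V)) ⤳ x) : ∃ q, pt hV P q = x := by
  obtain ⟨Q, rfl⟩ := hV.range_fromSpec.superset hx
  have h : (⟨P, hP⟩ : PrimeSpectrum Γ(F, V)) ≤ (Q : PrimeSpectrum Γ(F, V)) :=
    (PrimeSpectrum.le_iff_specializes _ _).mpr (hV.fromSpec.isOpenEmbedding.isInducing.specializes_iff.mp hsp)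
  obtain ⟨q, hq⟩ : (Q : PrimeSpectrum Γ(F, V)) ∈ Set.range (PrimeSpectrum.comap (Ideal.Quotient.mk P)) := by
    rw [range_comap_of_surjective _ _ Ideal.Quotient.mk_surjective, Ideal.mk_ker]
    exact h
  exact ⟨q, congrArg hV.fromSpec hq⟩

end

/-- a chain of points gives a lower bound for the dimension of the chart -/
theorem le_dim_chart {F : Scheme.{u}} {V : F.Opens} (hV : IsAffineOpen V) (P : Ideal Γ(F, V))
    [hP : P.IsPrime] {n : ℕ} (ζ : Fin (n + 1) → F) (hζV : ∀ i, ζ i ∈ V)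
    (hξ : ∀ i, hV.fromSpec (⟨P, hP⟩ : PrimeSpectrum Γ(F, V)) ⤳ ζ i)
    (hmono : ∀ i : Fin n, ζ i.castSucc ⤳ ζ i.succ ∧ ζ i.castSucc ≠ ζ i.succ) :
    (n : WithBot ℕ∞) ≤ ringKrullDim (Γ(F, V) ⧸ P) := by
  choose q hq using fun i => mem_range_pt hV P (ζ i) (hζV i) (hξ i)
  let l : LTSeries (PrimeSpectrum (Γ(F, V) ⧸ P)) := ⟨n, q, fun i => by
    refine lt_of_le_of_ne ((pt_le_iff hV P _ _).mpr (by rw [hq, hq]; exact (hmono i).1)) fun h => ?_
    exact (hmono i).2 (by rw [← hq, ← hq, h])⟩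
  exact Order.LTSeries.length_le_krullDim l

/-- At a closed point of a scheme locally of finite type over a field the local ring has at least the
dimension of any component through the point. -/
theorem le_ringKrullDim_stalk {K : Type u} [Field K] {F : Scheme.{u}} (π : F ⟶ Spec (CommRingCat.of K))
    [LocallyOfFiniteType π] (v : F) (hv : IsClosed ({v} : Set F)) (Z : Set F) (hZi : IsIrreducible Z)
    (hZc : IsClosed Z) (hvZ : v ∈ Z) :
    topologicalKrullDim Z ≤ ringKrullDim (F.presheaf.stalk v) := by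
  haveI : JacobsonSpace F := LocallyOfFiniteType.jacobsonSpace π
  refine iSup_le fun σ => ?_
  have hcl : ∀ i, IsClosed (Subtype.val '' (σ i : Set Z)) := fun i =>
    hZc.isClosedEmbedding_subtypeVal.isClosedMap _ (σ i).isClosed
  have hirr : ∀ i, IsIrreducible (Subtype.val '' (σ i : Set Z)) := fun i =>
    (σ i).isIrreducible.image _ continuous_subtype_val.continuousOn
  let ζ : Fin (σ.length + 1) → F := fun i => (hirr i).genericPoint
  have hζ : ∀ i, closure ({ζ i} : Set F) = Subtype.val '' (σ i : Set Z) := fun i => by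
    rw [(hirr i).genericPoint_closure_eq, (hcl i).closure_eq]
  let ξ := hZi.genericPoint
  have hξ : ∀ x ∈ Z, ξ ⤳ x := fun x hx => specializes_iff_mem_closure.mpr (by
    rw [hZi.genericPoint_closure_eq, hZc.closure_eq]; exact hx)
  have hζZ : ∀ i, ζ i ∈ Z := fun i => by
    obtain ⟨a, -, ha⟩ := (hζ i).subset (subset_closure rfl)
    exact ha ▸ a.2
  obtain ⟨z, hz⟩ := (hirr 0).nonempty
  have hζz : ∀ i, ζ i ⤳ z := fun i => specializes_iff_mem_closure.mpr (by
    rw [hζ]; exact Set.image_mono (σ.monotone (Fin.zero_le i)) hz)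
  obtain ⟨V', hV', hzV', -⟩ := exists_isAffineOpen_mem_and_subset (X := F) (U := ⊤) (x := z) trivial
  obtain ⟨V, hV, hvV, -⟩ := exists_isAffineOpen_mem_and_subset (X := F) (U := ⊤) (x := v) trivial
  have hzZ : z ∈ Z := by obtain ⟨a, -, rfl⟩ := hz; exact a.2
  have hξV' : ξ ∈ V' := (hξ z hzZ).mem_open V'.isOpen hzV'
  have hξV : ξ ∈ V := (hξ v hvZ).mem_open V.isOpen hvV
  have hft : ∀ (W : F.Opens), IsAffineOpen W →
      ((Scheme.ΓSpecIso (CommRingCat.of K)).inv ≫ π.appLE ⊤ W le_top).hom.FiniteType := fun W hW =>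
    (LocallyOfFiniteType.finiteType_appLE π (isAffineOpen_top _) hW le_top).comp
      (RingHom.FiniteType.of_surjective _
        (ConcreteCategory.bijective_of_isIso (Scheme.ΓSpecIso (CommRingCat.of K)).inv).2)
  obtain ⟨P', hP'⟩ := hV'.range_fromSpec.superset hξV'
  obtain ⟨P, hP⟩ := hV.range_fromSpec.superset hξV
  let P1 : PrimeSpectrum Γ(F, V') := P'
  let P2 : PrimeSpectrum Γ(F, V) := P
  replace hP' : hV'.fromSpec P1 = ξ := hP'
  replace hP : hV.fromSpec P2 = ξ := hP
  have h1 : (σ.length : WithBot ℕ∞) ≤ ringKrullDim (Γ(F, V') ⧸ P1.asIdeal) := by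
    refine le_dim_chart hV' P1.asIdeal (fun i => ζ i.rev)
      (fun i => (hζz _).mem_open V'.isOpen hzV') (fun i => hP' ▸ hξ _ (hζZ _)) fun i => ?_
    have hlt := σ.strictMono (show i.succ.rev < i.castSucc.rev by
      rw [Fin.rev_lt_rev]; exact Fin.castSucc_lt_succ)
    refine ⟨specializes_iff_mem_closure.mpr ?_, fun he => ?_⟩
    · rw [hζ]
      refine Set.image_mono hlt.le ?_
      exact (hζ _).subset (subset_closure rfl)
    · refine hlt.ne (IrreducibleCloseds.ext ?_)
      refine Subtype.val_injective.image_injective ?_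
      rw [← hζ, ← hζ]; exact congrArg (fun x => closure {x}) he.symm
  letI : Algebra K Γ(F, V') := (((Scheme.ΓSpecIso (CommRingCat.of K)).inv ≫ π.appLE ⊤ V' le_top).hom).toAlgebra
  haveI : Algebra.FiniteType K Γ(F, V') := hft V' hV'
  letI : Algebra K Γ(F, V) := (((Scheme.ΓSpecIso (CommRingCat.of K)).inv ≫ π.appLE ⊤ V le_top).hom).toAlgebra
  haveI : Algebra.FiniteType K Γ(F, V) := hft V hV
  haveI := P1.2
  haveI := P2.2
  obtain ⟨w, ⟨⟨hwV, hwV'⟩, hwZ⟩, hw⟩ := nonempty_inter_closedPoints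
    (Z := ((V : Set F) ∩ V') ∩ Z) ⟨ξ, ⟨hξV, hξV'⟩, by rw [← hZc.closure_eq, ← hZi.genericPoint_closure_eq]; exact subset_closure rfl⟩
    ((V.isOpen.inter V'.isOpen).isLocallyClosed.inter hZc.isLocallyClosed)
  obtain ⟨M', hM'⟩ := mem_range_pt hV' P1.asIdeal w hwV' (hP' ▸ hξ w hwZ)
  haveI : M'.asIdeal.IsMaximal := by
    obtain ⟨N, hN, hle⟩ := Ideal.exists_le_maximal _ M'.2.ne_top
    have h := (pt_le_iff hV' P1.asIdeal M' ⟨N, hN.isPrime⟩).mp hle
    rw [hM'] at h
    have h2 := pt_injective hV' P1.asIdeal ((hw.closure_eq.subset h.mem_closure).trans hM'.symm)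
    rw [← h2]; exact hN
  have h2 : (σ.length : WithBot ℕ∞) ≤ ringKrullDim (Γ(F, V) ⧸ P2.asIdeal) := by
    have h3 := h1.trans (ringKrullDim_le_height K _ M'.asIdeal)
    rw [show M'.asIdeal.height = Order.height M' from PrimeSpectrum.height_eq_orderHeight M'] at h3
    have h4 : (σ.length : ℕ∞) ≤ Order.height M' := WithBot.coe_le_coe.mp h3
    obtain ⟨l, hl, hlen⟩ := Order.exists_series_of_le_height M' h4
    rw [← hlen]
    refine le_dim_chart hV P2.asIdeal (fun i => pt hV' P1.asIdeal (l i)) (fun i => ?_) (fun i => ?_)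
      fun i => ⟨(pt_le_iff hV' P1.asIdeal _ _).mp (l.step i).le,
        fun h => (l.step i).ne (pt_injective hV' _ h)⟩
    · refine Specializes.mem_open ?_ V.isOpen hwV
      rw [← hM', ← hl]
      exact (pt_le_iff hV' P1.asIdeal _ _).mp (l.monotone (Fin.le_last i))
    · show hV.fromSpec P2 ⤳ _
      rw [hP, ← hP']
      refine (Specializes.map ?_ hV'.fromSpec.continuous)
      refine (PrimeSpectrum.le_iff_specializes P1 _).mp fun a ha => ?_
      show Ideal.Quotient.mk _ a ∈ (l i).asIdeal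
      rw [Ideal.Quotient.eq_zero_iff_mem.mpr ha]; exact Ideal.zero_mem _
  refine h2.trans ?_
  obtain ⟨M, hM⟩ := mem_range_pt hV P2.asIdeal v hvV (hP ▸ hξ v hvZ)
  haveI : M.asIdeal.IsMaximal := by
    obtain ⟨N, hN, hle⟩ := Ideal.exists_le_maximal _ M.2.ne_top
    have h := (pt_le_iff hV P2.asIdeal M ⟨N, hN.isPrime⟩).mp hle
    rw [hM] at h
    have h2 := pt_injective hV P2.asIdeal ((hv.closure_eq.subset h.mem_closure).trans hM.symm)
    rw [← h2]; exact hN
  refine (ringKrullDim_le_height K _ M.asIdeal).trans ?_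
  let Mv : PrimeSpectrum Γ(F, V) := PrimeSpectrum.comap (Ideal.Quotient.mk P2.asIdeal) M
  letI := F.presheaf.algebra_section_stalk (⟨v, hvV⟩ : V)
  haveI : IsLocalization.AtPrime (F.presheaf.stalk v) Mv.asIdeal := by
    have h := hV.isLocalization_stalk ⟨v, hvV⟩
    have he : hV.primeIdealOf ⟨v, hvV⟩ = Mv := hV.fromSpec.isOpenEmbedding.injective
      ((hV.fromSpec_primeIdealOf ⟨v, hvV⟩).trans hM.symm)
    rwa [he] at h
  rw [IsLocalization.AtPrime.ringKrullDim_eq_height Mv.asIdeal (F.presheaf.stalk v)]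
  refine WithBot.coe_le_coe.mpr ?_
  rw [show M.asIdeal.height = Order.height M from PrimeSpectrum.height_eq_orderHeight M,
    show Mv.asIdeal.height = Order.height Mv from PrimeSpectrum.height_eq_orderHeight Mv]
  exact Order.height_le_height_apply_of_strictMono (PrimeSpectrum.comap (Ideal.Quotient.mk P2.asIdeal))
    (fun a b hab => lt_of_le_of_ne (Ideal.comap_mono hab.le) fun e =>
      hab.ne (PrimeSpectrum.comap_injective_of_surjective _ Ideal.Quotient.mk_surjective e)) M

/-- Dimension of an irreducible closed subset is attained on every open subset meeting it. -/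
theorem dim_le_inter {K : Type u} [Field K] {F : Scheme.{u}} (π : F ⟶ Spec (CommRingCat.of K))
    [LocallyOfFiniteType π] (Z : Set F) (hZi : IsIrreducible Z)
    (hZc : IsClosed Z) (O : F.Opens) (v : F) (hvZ : v ∈ Z) (hvO : v ∈ O) :
    topologicalKrullDim Z ≤ topologicalKrullDim ↥(Z ∩ (O : Set F)) := by
  haveI : JacobsonSpace F := LocallyOfFiniteType.jacobsonSpace π
  refine iSup_le fun σ => ?_
  have hcl : ∀ i, IsClosed (Subtype.val '' (σ i : Set Z)) := fun i =>
    hZc.isClosedEmbedding_subtypeVal.isClosedMap _ (σ i).isClosed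
  have hirr : ∀ i, IsIrreducible (Subtype.val '' (σ i : Set Z)) := fun i =>
    (σ i).isIrreducible.image _ continuous_subtype_val.continuousOn
  let ζ : Fin (σ.length + 1) → F := fun i => (hirr i).genericPoint
  have hζ : ∀ i, closure ({ζ i} : Set F) = Subtype.val '' (σ i : Set Z) := fun i => by
    rw [(hirr i).genericPoint_closure_eq, (hcl i).closure_eq]
  let ξ := hZi.genericPoint
  have hξ : ∀ x ∈ Z, ξ ⤳ x := fun x hx => specializes_iff_mem_closure.mpr (by
    rw [hZi.genericPoint_closure_eq, hZc.closure_eq]; exact hx)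
  have hζZ : ∀ i, ζ i ∈ Z := fun i => by
    obtain ⟨a, -, ha⟩ := (hζ i).subset (subset_closure rfl)
    exact ha ▸ a.2
  obtain ⟨z, hz⟩ := (hirr 0).nonempty
  have hζz : ∀ i, ζ i ⤳ z := fun i => specializes_iff_mem_closure.mpr (by
    rw [hζ]; exact Set.image_mono (σ.monotone (Fin.zero_le i)) hz)
  obtain ⟨V', hV', hzV', -⟩ := exists_isAffineOpen_mem_and_subset (X := F) (U := ⊤) (x := z) trivial
  obtain ⟨V, hV, hvV, hVO⟩ := exists_isAffineOpen_mem_and_subset (X := F) (U := O) (x := v) hvO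
  have hzZ : z ∈ Z := by obtain ⟨a, -, rfl⟩ := hz; exact a.2
  have hξV' : ξ ∈ V' := (hξ z hzZ).mem_open V'.isOpen hzV'
  have hξV : ξ ∈ V := (hξ v hvZ).mem_open V.isOpen hvV
  have hft : ∀ (W : F.Opens), IsAffineOpen W →
      ((Scheme.ΓSpecIso (CommRingCat.of K)).inv ≫ π.appLE ⊤ W le_top).hom.FiniteType := fun W hW =>
    (LocallyOfFiniteType.finiteType_appLE π (isAffineOpen_top _) hW le_top).comp
      (RingHom.FiniteType.of_surjective _
        (ConcreteCategory.bijective_of_isIso (Scheme.ΓSpecIso (CommRingCat.of K)).inv).2)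
  obtain ⟨P', hP'⟩ := hV'.range_fromSpec.superset hξV'
  obtain ⟨P, hP⟩ := hV.range_fromSpec.superset hξV
  let P1 : PrimeSpectrum Γ(F, V') := P'
  let P2 : PrimeSpectrum Γ(F, V) := P
  replace hP' : hV'.fromSpec P1 = ξ := hP'
  replace hP : hV.fromSpec P2 = ξ := hP
  have h1 : (σ.length : WithBot ℕ∞) ≤ ringKrullDim (Γ(F, V') ⧸ P1.asIdeal) := by
    refine le_dim_chart hV' P1.asIdeal (fun i => ζ i.rev)
      (fun i => (hζz _).mem_open V'.isOpen hzV') (fun i => hP' ▸ hξ _ (hζZ _)) fun i => ?_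
    have hlt := σ.strictMono (show i.succ.rev < i.castSucc.rev by
      rw [Fin.rev_lt_rev]; exact Fin.castSucc_lt_succ)
    refine ⟨specializes_iff_mem_closure.mpr ?_, fun he => ?_⟩
    · rw [hζ]
      refine Set.image_mono hlt.le ?_
      exact (hζ _).subset (subset_closure rfl)
    · refine hlt.ne (IrreducibleCloseds.ext ?_)
      refine Subtype.val_injective.image_injective ?_
      rw [← hζ, ← hζ]; exact congrArg (fun x => closure {x}) he.symm
  letI : Algebra K Γ(F, V') := (((Scheme.ΓSpecIso (CommRingCat.of K)).inv ≫ π.appLE ⊤ V' le_top).hom).toAlgebra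
  haveI : Algebra.FiniteType K Γ(F, V') := hft V' hV'
  letI : Algebra K Γ(F, V) := (((Scheme.ΓSpecIso (CommRingCat.of K)).inv ≫ π.appLE ⊤ V le_top).hom).toAlgebra
  haveI : Algebra.FiniteType K Γ(F, V) := hft V hV
  haveI := P1.2
  haveI := P2.2
  obtain ⟨w, ⟨⟨hwV, hwV'⟩, hwZ⟩, hw⟩ := nonempty_inter_closedPoints
    (Z := ((V : Set F) ∩ V') ∩ Z) ⟨ξ, ⟨hξV, hξV'⟩, by rw [← hZc.closure_eq, ← hZi.genericPoint_closure_eq]; exact subset_closure rfl⟩
    ((V.isOpen.inter V'.isOpen).isLocallyClosed.inter hZc.isLocallyClosed)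
  obtain ⟨M', hM'⟩ := mem_range_pt hV' P1.asIdeal w hwV' (hP' ▸ hξ w hwZ)
  haveI : M'.asIdeal.IsMaximal := by
    obtain ⟨N, hN, hle⟩ := Ideal.exists_le_maximal _ M'.2.ne_top
    have h := (pt_le_iff hV' P1.asIdeal M' ⟨N, hN.isPrime⟩).mp hle
    rw [hM'] at h
    have h2 := pt_injective hV' P1.asIdeal ((hw.closure_eq.subset h.mem_closure).trans hM'.symm)
    rw [← h2]; exact hN
  have h2 : (σ.length : WithBot ℕ∞) ≤ ringKrullDim (Γ(F, V) ⧸ P2.asIdeal) := by
    have h3 := h1.trans (ringKrullDim_le_height K _ M'.asIdeal)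
    rw [show M'.asIdeal.height = Order.height M' from PrimeSpectrum.height_eq_orderHeight M'] at h3
    have h4 : (σ.length : ℕ∞) ≤ Order.height M' := WithBot.coe_le_coe.mp h3
    obtain ⟨l, hl, hlen⟩ := Order.exists_series_of_le_height M' h4
    rw [← hlen]
    refine le_dim_chart hV P2.asIdeal (fun i => pt hV' P1.asIdeal (l i)) (fun i => ?_) (fun i => ?_)
      fun i => ⟨(pt_le_iff hV' P1.asIdeal _ _).mp (l.step i).le,
        fun h => (l.step i).ne (pt_injective hV' _ h)⟩
    · refine Specializes.mem_open ?_ V.isOpen hwV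
      rw [← hM', ← hl]
      exact (pt_le_iff hV' P1.asIdeal _ _).mp (l.monotone (Fin.le_last i))
    · show hV.fromSpec P2 ⤳ _
      rw [hP, ← hP']
      refine (Specializes.map ?_ hV'.fromSpec.continuous)
      refine (PrimeSpectrum.le_iff_specializes P1 _).mp fun a ha => ?_
      show Ideal.Quotient.mk _ a ∈ (l i).asIdeal
      rw [Ideal.Quotient.eq_zero_iff_mem.mpr ha]; exact Ideal.zero_mem _
  refine h2.trans ?_
  rw [← PrimeSpectrum.topologicalKrullDim_eq_ringKrullDim]
  have hmem : ∀ q, pt hV P2.asIdeal q ∈ Z ∩ (O : Set F) := fun q => by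
    refine ⟨?_, hVO (hV.range_fromSpec.subset ⟨_, rfl⟩)⟩
    rw [← hZc.closure_eq, ← hZi.genericPoint_closure_eq]
    refine Specializes.mem_closure ?_
    show ξ ⤳ _
    rw [← hP]
    refine Specializes.map ?_ hV.fromSpec.continuous
    refine (PrimeSpectrum.le_iff_specializes P2 _).mp fun a ha => ?_
    show Ideal.Quotient.mk _ a ∈ q.asIdeal
    rw [Ideal.Quotient.eq_zero_iff_mem.mpr ha]; exact Ideal.zero_mem _
  refine Topology.IsInducing.topologicalKrullDim_le (f := fun q => ⟨_, hmem q⟩) ?_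
  exact (hV.fromSpec.isOpenEmbedding.isInducing.comp (PrimeSpectrum.isClosedEmbedding_comap_of_surjective _ _
      Ideal.Quotient.mk_surjective).isInducing).codRestrict hmem

end Groth.Agent.GenDim
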