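import Mathlib
import Groth.Agent.GenDim.Alg
import Groth.Agent.TopDim.Basic
import Groth.Agent.Mor.OpenGen

set_option autoImplicit false
set_option backward.isDefEq.respectTransparency false
universe u
open TensorProduct AlgebraicGeometry CategoryTheory CategoryTheory.Limits Topology

namespace Groth.Agent.GenDim

/-- A valuation subring of `κ(p')` centred at `p`. -/
theorem exists_valuation {A : Type u} [CommRing A] (p p' : Ideal A) [p.IsPrime] [p'.IsPrime]
    (h : p' ≤ p) :
    ∃ (V : ValuationSubring p'.ResidueField) (_ : Algebra A V) (_ : IsScalarTower A V p'.ResidueField),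
      (IsLocalRing.maximalIdeal V).comap (algebraMap A V) = p := by
  let φ : Localization.AtPrime p →+* p'.ResidueField :=
    IsLocalization.lift (M := p.primeCompl) (S := Localization.AtPrime p)
      (g := algebraMap A p'.ResidueField) (fun a => by
        refine isUnit_iff_ne_zero.mpr fun h0 => a.2 (h ?_)
        rwa [← RingHom.mem_ker, Ideal.ker_algebraMap_residueField] at h0)
  obtain ⟨V, hV⟩ := LocalSubring.exists_le_valuationSubring (LocalSubring.range φ)
  let ψ : Localization.AtPrime p →+* V :=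
    φ.codRestrict V.toSubring (fun x => hV.1 (show φ x ∈ φ.range from ⟨x, rfl⟩))
  haveI : IsLocalHom ψ := by
    constructor
    intro x hx
    obtain ⟨hle, hloc⟩ := hV
    have h1 : IsUnit (⟨φ x, ⟨x, rfl⟩⟩ : (LocalSubring.range φ).toSubring) := by
      refine hloc.1 _ ?_
      exact hx
    by_contra hxu
    obtain ⟨y, hy⟩ := isUnit_iff_exists_inv.mp h1
    obtain ⟨z, hz⟩ := (show (y : p'.ResidueField) ∈ φ.range from y.2)
    have h2 : φ (x * z - 1) = 0 := by
      rw [map_sub, map_mul, map_one, hz, sub_eq_zero]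
      exact congrArg Subtype.val hy
    have hu : IsUnit (x * z - 1) := by
      have hxm : x * z ∈ IsLocalRing.maximalIdeal (Localization.AtPrime p) :=
        Ideal.mul_mem_right _ _ ((IsLocalRing.mem_maximalIdeal _).mpr hxu)
      by_contra hn
      have := Ideal.sub_mem _ hxm ((IsLocalRing.mem_maximalIdeal _).mpr hn)
      simp only [sub_sub_cancel] at this
      exact (Ideal.ne_top_iff_one _).mp (IsLocalRing.maximalIdeal.isMaximal _).ne_top this
    exact (hu.map φ).ne_zero h2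
  letI : Algebra A V := (ψ.comp (algebraMap A (Localization.AtPrime p))).toAlgebra
  refine ⟨V, inferInstance, IsScalarTower.of_algebraMap_eq fun a => ?_, ?_⟩
  · show algebraMap A _ a = ((ψ (algebraMap A _ a) : V) : p'.ResidueField)
    exact (IsLocalization.lift_eq _ a).symm
  · have h04 : (IsLocalRing.maximalIdeal V).comap ψ = IsLocalRing.maximalIdeal _ :=
      ((IsLocalRing.local_hom_TFAE ψ).out 0 4 rfl rfl).mp ‹IsLocalHom ψ›
    rw [RingHom.algebraMap_toAlgebra, ← Ideal.comap_comap, h04]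
    exact Localization.AtPrime.under_maximalIdeal

section chart

variable {X S : Scheme.{u}} (f : X ⟶ S) {U₀ : S.Opens} (hU₀ : IsAffineOpen U₀) {U : X.Opens}
  (hU : IsAffineOpen U) (hUU : U ≤ f ⁻¹ᵁ U₀)

/-- fibre chart -/
theorem exists_fibre_chart (t : U₀) :
    letI := (f.appLE U₀ U hUU).hom.toAlgebra
    ∃ ε : PrimeSpectrum ((hU₀.primeIdealOf t).asIdeal.Fiber Γ(X, U)) → X, IsEmbedding ε ∧
      Set.range ε = (U : Set X) ∩ f.base ⁻¹' {(t : S)} ∧
      ∀ P, ε P = hU.fromSpec (PrimeSpectrum.comap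
        (Algebra.TensorProduct.includeRight (R := Γ(S, U₀))
          (A := (hU₀.primeIdealOf t).asIdeal.ResidueField) (B := Γ(X, U))).toRingHom P) := by
  letI := (f.appLE U₀ U hUU).hom.toAlgebra
  let p := hU₀.primeIdealOf t
  let e := (PrimeSpectrum.preimageHomeomorphFiber Γ(S, U₀) Γ(X, U) p).symm
  let ε : PrimeSpectrum (p.asIdeal.Fiber Γ(X, U)) → X := fun P => hU.fromSpec (e P).1
  have hf : ∀ Q : PrimeSpectrum Γ(X, U), f (hU.fromSpec Q) =
      hU₀.fromSpec (PrimeSpectrum.comap (algebraMap Γ(S, U₀) Γ(X, U)) Q) := fun Q => by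
    show (hU.fromSpec ≫ f) Q = _
    rw [← IsAffineOpen.SpecMap_appLE_fromSpec f hU₀ hU hUU]
    rfl
  refine ⟨ε, hU.fromSpec.isOpenEmbedding.isEmbedding.comp
    (IsEmbedding.subtypeVal.comp e.isEmbedding), ?_, fun P => rfl⟩
  ext x
  constructor
  · rintro ⟨P, rfl⟩
    refine ⟨hU.range_fromSpec.subset ⟨_, rfl⟩, ?_⟩
    show f _ = _
    rw [hf, show PrimeSpectrum.comap (algebraMap Γ(S, U₀) Γ(X, U)) (e P).1 = p from (e P).2]
    exact hU₀.fromSpec_primeIdealOf t
  · rintro ⟨hx, hxt⟩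
    obtain ⟨Q, rfl⟩ := hU.range_fromSpec.superset hx
    have hQ : PrimeSpectrum.comap (algebraMap Γ(S, U₀) Γ(X, U)) Q = p := by
      apply hU₀.fromSpec.isOpenEmbedding.injective
      rw [← hf, hU₀.fromSpec_primeIdealOf t]
      exact hxt
    exact ⟨e.symm ⟨Q, hQ⟩, congrArg (fun z => hU.fromSpec z.1) (e.apply_symm_apply ⟨Q, hQ⟩)⟩

end chart

/-- A long chain in a closed subset starts at some prime. -/
theorem exists_prime_of_le_dim {F : Type u} [CommRing F] (C : Set (PrimeSpectrum F)) (hC : IsClosed C)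
    (n : ℕ) (hdimC : (n : WithBot ℕ∞) ≤ topologicalKrullDim C) :
    ∃ P₀ ∈ C, (n : WithBot ℕ∞) ≤ ringKrullDim (F ⧸ P₀.asIdeal) := by
  obtain ⟨W, hW⟩ := (PrimeSpectrum.isClosed_iff_zeroLocus_ideal C).mp hC
  have h1 : topologicalKrullDim C =
      ringKrullDim (F ⧸ W) := by
    rw [← PrimeSpectrum.topologicalKrullDim_eq_ringKrullDim, hW,
      ← PrimeSpectrum.zeroLocus_span, Ideal.span_eq]
    refine ((PrimeSpectrum.isClosedEmbedding_comap_of_surjective _ _
      (Ideal.Quotient.mk_surjective (I := W))).isEmbedding.toHomeomorph.trans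
        (Homeomorph.setCongr ?_)).symm.isHomeomorph.topologicalKrullDim_eq
    rw [range_comap_of_surjective _ _ Ideal.Quotient.mk_surjective, Ideal.mk_ker]
  rw [h1] at hdimC
  obtain ⟨l, hl⟩ := Order.le_krullDim_iff.mp hdimC
  let P₀ : PrimeSpectrum (F) :=
    PrimeSpectrum.comap (Ideal.Quotient.mk W) l.head
  refine ⟨P₀, ?_, ?_⟩
  · rw [hW, PrimeSpectrum.mem_zeroLocus]
    intro x hx
    show Ideal.Quotient.mk W x ∈ l.head.asIdeal
    rw [Ideal.Quotient.eq_zero_iff_mem.mpr hx]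
    exact Ideal.zero_mem _
  · have hsub : ∀ i, P₀.asIdeal ≤ (l i).asIdeal.comap (Ideal.Quotient.mk W) := fun i =>
      Ideal.comap_mono (l.monotone (Fin.zero_le i))
    let l' : LTSeries (PrimeSpectrum (F ⧸ P₀.asIdeal)) :=
      ⟨l.length, fun i => ⟨((l i).asIdeal.comap (Ideal.Quotient.mk W)).map
          (Ideal.Quotient.mk P₀.asIdeal),
        Ideal.map_isPrime_of_surjective Ideal.Quotient.mk_surjective (by
          rw [Ideal.mk_ker]; exact hsub i)⟩, fun i => ?_⟩
    · rw [← hl]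
      exact Order.LTSeries.length_le_krullDim l'
    · have hlt := l.step i
      change (l i.castSucc).asIdeal < (l i.succ).asIdeal at hlt
      have h3 : (l i.castSucc).asIdeal.comap (Ideal.Quotient.mk W) < (l i.succ).asIdeal.comap (Ideal.Quotient.mk W) :=
        lt_of_le_of_ne (Ideal.comap_mono hlt.le) fun he => hlt.ne
          (Ideal.comap_injective_of_surjective _ Ideal.Quotient.mk_surjective he)
      refine lt_of_le_of_ne (Ideal.map_mono h3.le) fun he => h3.ne ?_
      have := congrArg (Ideal.comap (Ideal.Quotient.mk P₀.asIdeal)) he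
      rwa [Ideal.comap_map_of_surjective _ Ideal.Quotient.mk_surjective,
        Ideal.comap_map_of_surjective _ Ideal.Quotient.mk_surjective, ← RingHom.ker_eq_comap_bot,
        Ideal.mk_ker, sup_eq_left.mpr (hsub _), sup_eq_left.mpr (hsub _)] at this

/- Universal openness gives generizations in the generic fibre. -/
set_option maxHeartbeats 1000000 in
theorem lifting {X S : Scheme.{u}} (f : X ⟶ S) {ι : Type u}
    (Y : ι → Scheme.{u}) (g : ∀ i, Y i ⟶ S) [∀ i, UniversallyOpen (g i)]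
    (v : ∀ i, Y i ⟶ X) (hv : ∀ i, v i ≫ f = g i) {U₀ : S.Opens} (hU₀ : IsAffineOpen U₀)
    {U : X.Opens} (hU : IsAffineOpen U) (hUU : U ≤ f ⁻¹ᵁ U₀)
    (P' : Ideal Γ(S, U₀)) [P'.IsPrime] (V : ValuationSubring P'.ResidueField) [Algebra Γ(S, U₀) V]
    [IsScalarTower Γ(S, U₀) V P'.ResidueField] :
    letI := (f.appLE U₀ U hUU).hom.toAlgebra
    ∀ Q : PrimeSpectrum (V ⊗[Γ(S, U₀)] Γ(X, U)),
      hU.fromSpec (PrimeSpectrum.comap (Algebra.TensorProduct.includeRight (R := Γ(S, U₀)) (A := V)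
        (B := Γ(X, U))).toRingHom Q) ∈ (⋃ i, Set.range (v i).base) →
      ∃ M : PrimeSpectrum (P'.Fiber Γ(X, U)),
        hU.fromSpec (PrimeSpectrum.comap (Algebra.TensorProduct.includeRight (R := Γ(S, U₀))
          (A := P'.ResidueField) (B := Γ(X, U))).toRingHom M) ∈ (⋃ i, Set.range (v i).base) ∧
        M.asIdeal.comap (Algebra.TensorProduct.map (IsScalarTower.toAlgHom Γ(S, U₀) V P'.ResidueField)
          (AlgHom.id Γ(S, U₀) Γ(X, U))).toRingHom ≤ Q.asIdeal := by
  letI := (f.appLE U₀ U hUU).hom.toAlgebra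
  intro Q hQJ
  -- the lifting hypothesis
  obtain ⟨i, y, hy⟩ := Set.mem_iUnion.mp hQJ
  let SV := Spec (CommRingCat.of V)
  let b : SV ⟶ S := Spec.map (CommRingCat.ofHom (algebraMap Γ(S, U₀) V)) ≫ hU₀.fromSpec
  let r : Spec (CommRingCat.of (V ⊗[Γ(S, U₀)] Γ(X, U))) ⟶ Spec Γ(X, U) :=
    Spec.map (CommRingCat.ofHom (Algebra.TensorProduct.includeRight (R := Γ(S, U₀)) (A := V)
      (B := Γ(X, U))).toRingHom)
  let c : Spec (CommRingCat.of (V ⊗[Γ(S, U₀)] Γ(X, U))) ⟶ SV :=
    Spec.map (CommRingCat.ofHom (Algebra.TensorProduct.includeLeftRingHom (R := Γ(S, U₀)) (A := V)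
      (B := Γ(X, U))))
  have hsq : IsPullback r c (hU.fromSpec ≫ f) b := by
    have h1 := isPullback_SpecMap_of_isPushout _ _ _ _
      (CommRingCat.isPushout_tensorProduct Γ(S, U₀) V Γ(X, U)).flip
    have h3 := IsPullback.of_isLimit
      (PullbackCone.isLimitOfCompMono _ _ hU₀.fromSpec _ h1.isLimit)
    refine h3.of_iso (Iso.refl _) (Iso.refl _) (Iso.refl _) (Iso.refl _) ?_ ?_ ?_ ?_
    · simp; rfl
    · simp; rfl
    · simp [← IsAffineOpen.SpecMap_appLE_fromSpec f hU₀ hU hUU]; rfl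
    · simp [b]
  let jT := pullback.lift (f := f) (g := b) (r ≫ hU.fromSpec) c (by
    rw [Category.assoc]; exact hsq.w)
  have hjT : IsPullback r jT hU.fromSpec (pullback.fst f b) := by
    refine IsPullback.of_bot ?_ (pullback.lift_fst _ _ _).symm (IsPullback.of_hasPullback f b)
    rwa [pullback.lift_snd]
  haveI : IsOpenImmersion jT := MorphismProperty.of_isPullback hjT inferInstance
  let gi := g i
  let P := pullback gi b
  let vV : P ⟶ pullback f b := pullback.lift (pullback.fst gi b ≫ v i) (pullback.snd gi b) (by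
    rw [Category.assoc, hv, pullback.condition])
  have hvV : IsPullback (pullback.fst gi b) vV (v i) (pullback.fst f b) := by
    refine IsPullback.of_bot ?_ (pullback.lift_fst _ _ _).symm (IsPullback.of_hasPullback f b)
    rw [pullback.lift_snd, hv]
    exact IsPullback.of_hasPullback gi b
  have hfst : v i y = pullback.fst f b (jT Q) := by
    show _ = (jT ≫ pullback.fst f b) Q
    rw [pullback.lift_fst]
    exact hy
  obtain ⟨y', -, hy'⟩ := Scheme.Pullback.exists_preimage_pullback (f := v i) (g := pullback.fst f b)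
    y (jT Q) hfst
  let y'' : P := hvV.isoPullback.inv y'
  have hy'' : vV y'' = jT Q := by
    rw [← hy']
    show (hvV.isoPullback.inv ≫ vV) y' = _
    rw [hvV.isoPullback_inv_snd]
  -- generize
  haveI : UniversallyOpen (pullback.snd gi b) :=
    MorphismProperty.pullback_snd gi b (inferInstance : UniversallyOpen (g i))
  let η : SV := (⟨⊥, Ideal.isPrime_bot⟩ : PrimeSpectrum V)
  have hη : η ⤳ pullback.snd gi b y'' :=
    (PrimeSpectrum.le_iff_specializes (⟨⊥, Ideal.isPrime_bot⟩ : PrimeSpectrum V) _).mp bot_le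
  obtain ⟨y₁, hy₁, hy₁η⟩ := Mor.OpenGen.generalizingMap_of_isOpenMap _
    (pullback.snd gi b).isOpenMap hη
  have hω : vV y₁ ⤳ jT Q := hy'' ▸ hy₁.map vV.continuous
  obtain ⟨ω, hωe⟩ := hω.mem_open jT.isOpenEmbedding.isOpen_range ⟨Q, rfl⟩
  have hωQ : ω ⤳ Q := by
    rw [← jT.isOpenEmbedding.isInducing.specializes_iff, hωe]; exact hω
  have hωη : c ω = η := by
    rw [← hy₁η]
    calc c ω = (jT ≫ pullback.snd f b) ω := by rw [pullback.lift_snd]
      _ = pullback.snd f b (vV y₁) := congrArg (pullback.snd f b) hωe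
      _ = (vV ≫ pullback.snd f b) y₁ := rfl
      _ = pullback.snd gi b y₁ := by rw [pullback.lift_snd]
  have hωJ : hU.fromSpec (r ω) ∈ (⋃ i, Set.range (v i).base) := by
    refine Set.mem_iUnion.mpr ⟨i, pullback.fst gi b y₁, ?_⟩
    calc v i (pullback.fst gi b y₁) = (pullback.fst gi b ≫ v i) y₁ := rfl
      _ = (vV ≫ pullback.fst f b) y₁ := by rw [pullback.lift_fst]
      _ = pullback.fst f b (jT ω) := congrArg (pullback.fst f b) hωe.symm
      _ = (jT ≫ pullback.fst f b) ω := rfl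
      _ = hU.fromSpec (r ω) := by rw [pullback.lift_fst]; rfl
  -- extend `ω` to the generic fibre
  let ω' : PrimeSpectrum (V ⊗[Γ(S, U₀)] Γ(X, U)) := ω
  haveI := ω'.2
  let q : V ⊗[Γ(S, U₀)] Γ(X, U) →ₐ[Γ(S, U₀)] ω'.asIdeal.ResidueField :=
    IsScalarTower.toAlgHom _ _ _
  have hinj : Function.Injective (q.comp Algebra.TensorProduct.includeLeft : V →ₐ[Γ(S, U₀)] _) := by
    rw [injective_iff_map_eq_zero]
    intro a ha
    have h1 : Algebra.TensorProduct.includeLeftRingHom (R := Γ(S, U₀)) (A := V) (B := Γ(X, U)) a ∈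
        ω'.asIdeal := (Ideal.algebraMap_residueField_eq_zero).mp ha
    have h2 : PrimeSpectrum.comap (Algebra.TensorProduct.includeLeftRingHom (R := Γ(S, U₀)) (A := V)
        (B := Γ(X, U))) ω' = (⟨⊥, Ideal.isPrime_bot⟩ : PrimeSpectrum V) := hωη
    have h4 : a ∈ (⟨⊥, Ideal.isPrime_bot⟩ : PrimeSpectrum V).asIdeal := h2 ▸ h1
    simpa using h4
  let qK : P'.ResidueField →+* ω'.asIdeal.ResidueField := IsFractionRing.lift (A := V) hinj
  have hqK : ∀ a : V, qK (algebraMap V _ a) = q (a ⊗ₜ 1) := fun a => IsFractionRing.lift_algebraMap hinj a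
  let qKA : P'.ResidueField →ₐ[Γ(S, U₀)] ω'.asIdeal.ResidueField :=
    { qK with
      commutes' := fun a => by
        show qK (algebraMap _ _ a) = _
        rw [IsScalarTower.algebraMap_apply Γ(S, U₀) V P'.ResidueField, hqK]
        exact q.commutes a }
  let L : P'.Fiber Γ(X, U) →ₐ[Γ(S, U₀)] ω'.asIdeal.ResidueField :=
    Algebra.TensorProduct.lift qKA (q.comp Algebra.TensorProduct.includeRight)
      (fun _ _ => Commute.all _ _)
  have hLj : L.comp (Algebra.TensorProduct.map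
      (IsScalarTower.toAlgHom Γ(S, U₀) V P'.ResidueField) (AlgHom.id _ Γ(X, U))) = q := by
    ext a b
    · simp [L, qKA]
      rw [show (1 : V) ⊗ₜ[Γ(S, U₀)] (1 : Γ(X, U)) = 1 from rfl, map_one, mul_one]
      exact hqK a
    · simp [L]
  refine ⟨⟨RingHom.ker L.toRingHom, RingHom.ker_isPrime _⟩, ?_, ?_⟩
  · show hU.fromSpec _ ∈ ⋃ i, Set.range (v i).base
    convert hωJ using 2
    refine PrimeSpectrum.ext ?_
    show (RingHom.ker L.toRingHom).comap _ = ω'.asIdeal.comap _
    ext b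
    simp only [Ideal.mem_comap, RingHom.mem_ker]
    rw [← Ideal.algebraMap_residueField_eq_zero (I := ω'.asIdeal)]
    simp [L, q]
  · intro x hx
    have h1 : q x = 0 := by
      rw [← hLj]
      exact hx
    exact (PrimeSpectrum.le_iff_specializes ω' Q).mpr hωQ (Ideal.algebraMap_residueField_eq_zero.mp h1)

set_option maxHeartbeats 1000000 in
theorem main {X S : Scheme.{u}} (f : X ⟶ S) [LocallyOfFiniteType f] {ι : Type u}
    (Y : ι → Scheme.{u}) (g : ∀ i, Y i ⟶ S) [∀ i, UniversallyOpen (g i)]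
    (v : ∀ i, Y i ⟶ X) (hv : ∀ i, v i ≫ f = g i) (s s' : S) (hs : s' ⤳ s) :
    topologicalKrullDim ↥(f.base ⁻¹' {s} ∩ closure ((⋃ i, Set.range (v i).base) ∩ f.base ⁻¹' {s})) ≤
      topologicalKrullDim
        ↥(f.base ⁻¹' {s'} ∩ closure ((⋃ i, Set.range (v i).base) ∩ f.base ⁻¹' {s'})) := by
  classical
  set J : Set X := ⋃ i, Set.range (v i).base with hJ
  refine TopDim.Basic.dim_le fun σ => ?_
  obtain ⟨z, hz⟩ := σ.head.isIrreducible.nonempty
  obtain ⟨U₀, hU₀, hsU₀, -⟩ := exists_isAffineOpen_mem_and_subset (X := S) (U := ⊤) (x := s) trivial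
  obtain ⟨U, hU, hzU, hUU⟩ := exists_isAffineOpen_mem_and_subset (X := X) (U := f ⁻¹ᵁ U₀) (x := z.1)
    (by show f z.1 ∈ U₀; rw [show f z.1 = s from z.2.1]; exact hsU₀)
  have hs'U₀ : s' ∈ U₀ := hs.mem_open U₀.isOpen hsU₀
  letI := (f.appLE U₀ U hUU).hom.toAlgebra
  haveI : Algebra.FiniteType Γ(S, U₀) Γ(X, U) :=
    LocallyOfFiniteType.finiteType_appLE f hU₀ hU hUU
  let p := hU₀.primeIdealOf ⟨s, hsU₀⟩
  let p' := hU₀.primeIdealOf ⟨s', hs'U₀⟩
  have hpp : p'.asIdeal ≤ p.asIdeal := by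
    refine (PrimeSpectrum.le_iff_specializes p' p).mpr ?_
    rw [← hU₀.fromSpec.isOpenEmbedding.isInducing.specializes_iff]
    simpa [p, p', hU₀.fromSpec_primeIdealOf] using hs
  obtain ⟨ε, hε, hεr, hεe⟩ := exists_fibre_chart f hU₀ hU hUU ⟨s, hsU₀⟩
  obtain ⟨ε', hε', hεr', hεe'⟩ := exists_fibre_chart f hU₀ hU hUU ⟨s', hs'U₀⟩
  let JB : Set (PrimeSpectrum Γ(X, U)) := hU.fromSpec ⁻¹' J
  let C := closure (PrimeSpectrum.comap (Algebra.TensorProduct.includeRight (R := Γ(S, U₀))
          (A := p.asIdeal.ResidueField) (B := Γ(X, U))).toRingHom ⁻¹' JB)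
  let Us : Set ↥(f.base ⁻¹' {s} ∩ closure (J ∩ f.base ⁻¹' {s})) := Subtype.val ⁻¹' (U : Set X)
  have hn := TopDim.Basic.restrict_open σ (U := Us) (U.isOpen.preimage continuous_subtype_val)
    ⟨z, hz, hzU⟩
  have hεJ : PrimeSpectrum.comap (Algebra.TensorProduct.includeRight (R := Γ(S, U₀))
          (A := p.asIdeal.ResidueField) (B := Γ(X, U))).toRingHom ⁻¹' JB = ε ⁻¹' J := by
    ext P; simp [JB, hεe]
  have hC : C = ε ⁻¹' (closure (J ∩ f.base ⁻¹' {s})) := by
    rw [show C = closure (ε ⁻¹' J) from congrArg closure hεJ,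
      hε.isInducing.closure_eq_preimage_closure_image, Set.image_preimage_eq_inter_range, hεr]
    ext P
    have hP : ε P ∈ (U : Set X) := (hεr.subset ⟨P, rfl⟩).1
    refine ⟨fun h => closure_mono ?_ h, fun h => ?_⟩
    · exact fun x hx => ⟨hx.1, hx.2.2⟩
    · have := U.isOpen.inter_closure ⟨hP, h⟩
      refine closure_mono ?_ this
      exact fun x hx => ⟨hx.2.1, hx.1, hx.2.2⟩
  have hdimC : (σ.length : WithBot ℕ∞) ≤ topologicalKrullDim C := by
    refine hn.trans ?_
    let m : Us → C := fun x => ⟨hε.toHomeomorph.symm ⟨x.1.1, hεr.superset ⟨x.2, x.1.2.1⟩⟩, by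
      rw [hC, Set.mem_preimage]
      rw [show ε (hε.toHomeomorph.symm ⟨x.1.1, _⟩) = x.1.1 from
        congrArg Subtype.val (hε.toHomeomorph.apply_symm_apply _)]
      exact x.1.2.2⟩
    refine IsInducing.topologicalKrullDim_le (f := m) ?_
    refine IsInducing.of_comp (g := fun c : C => ε c.1) ?_ (hε.continuous.comp continuous_subtype_val) ?_
    · fun_prop
    · have : (fun c : C => ε c.1) ∘ m = fun x => x.1.1 := by
        funext x
        exact congrArg Subtype.val (hε.toHomeomorph.apply_symm_apply _)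
      rw [this]
      exact IsInducing.subtypeVal.comp IsInducing.subtypeVal
  obtain ⟨P₀, hP₀, hlen⟩ := exists_prime_of_le_dim C isClosed_closure σ.length hdimC
  obtain ⟨V, _, _, hV⟩ := exists_valuation p.asIdeal p'.asIdeal hpp
  obtain ⟨M₀, hM₀, hdim⟩ := key p.asIdeal p'.asIdeal V hV JB (fun Q _ hQJ => lifting f Y g v hv hU₀ hU hUU p'.asIdeal V Q hQJ) P₀ hP₀
  · refine (hlen.trans hdim).trans ?_
    rw [← PrimeSpectrum.topologicalKrullDim_eq_ringKrullDim]
    have hεJ' : PrimeSpectrum.comap (Algebra.TensorProduct.includeRight (R := Γ(S, U₀))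
          (A := p'.asIdeal.ResidueField) (B := Γ(X, U))).toRingHom ⁻¹' JB = ε' ⁻¹' J := by
      ext P; simp [JB, hεe']
    rw [hεJ'] at hM₀
    have hmem : ∀ P, ε' (PrimeSpectrum.comap (Ideal.Quotient.mk M₀.asIdeal) P) ∈
        f.base ⁻¹' {s'} ∩ closure (J ∩ f.base ⁻¹' {s'}) := by
      intro P
      refine ⟨(hεr'.subset ⟨_, rfl⟩).2, ?_⟩
      have hsp : M₀ ⤳ PrimeSpectrum.comap (Ideal.Quotient.mk M₀.asIdeal) P := by
        rw [← PrimeSpectrum.le_iff_specializes]
        intro x hx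
        show Ideal.Quotient.mk _ x ∈ P.asIdeal
        rw [Ideal.Quotient.eq_zero_iff_mem.mpr hx]
        exact Ideal.zero_mem _
      have h1 : ε' M₀ ∈ closure (J ∩ f.base ⁻¹' {s'}) := by
        refine closure_mono ?_ (image_closure_subset_closure_image hε'.continuous ⟨M₀, hM₀, rfl⟩)
        rintro _ ⟨P', hP', rfl⟩
        exact ⟨hP', (hεr'.subset ⟨P', rfl⟩).2⟩
      exact closure_minimal (Set.singleton_subset_iff.mpr h1) isClosed_closure
        (hsp.map hε'.continuous).mem_closure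
    refine IsInducing.topologicalKrullDim_le (f := fun P => ⟨_, hmem P⟩) ?_
    exact (hε'.isInducing.comp (PrimeSpectrum.isClosedEmbedding_comap_of_surjective _ _
      Ideal.Quotient.mk_surjective).isInducing).codRestrict hmem

end Groth.Agent.GenDim
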